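import Mathlib.AlgebraicGeometry.Sites.Fpqc

/-! # fpqc coverings are effective epimorphisms -/

set_option autoImplicit false
set_option backward.isDefEq.respectTransparency false

universe u

open CategoryTheory CategoryTheory.Limits AlgebraicGeometry

namespace Groth.Agent.MTDescent

variable {S S' : Scheme.{u}} (π : S' ⟶ S) [Flat π] [Surjective π]

theorem singleton_mem (hcov : ∀ V : S.Opens, IsAffineOpen V →
      ∃ W : S'.Opens, IsCompact (W : Set S') ∧ π.base '' (W : Set S') = (V : Set S)) :
    Presieve.singleton π ∈ Scheme.fpqcPrecoverage S := by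
  refine ⟨?_, ?_⟩
  · rw [Scheme.qcPrecoverage, PreZeroHypercoverFamily.mem_precoverage_iff]
    refine ⟨(π.cover (P := ⊤) trivial).toPreZeroHypercover, ?_, by simp⟩
    simp only [Scheme.qcCoverFamily_property, Scheme.quasiCompactCover_iff]
    constructor
    intro V hV
    obtain ⟨W, hW, e⟩ := hcov V hV
    rw [← e]
    exact ⟨{PUnit.unit}, Set.finite_singleton _, fun _ _ => W, fun _ _ => hW, by ext; simp; exact Iff.rfl⟩
  · rw [Scheme.singleton_mem_precoverage_iff]
    exact ⟨π.surjective, ‹Flat π›⟩

/-- base changes of fpqc coverings are effective epimorphisms -/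
theorem effectiveEpi_fst (hcov : ∀ V : S.Opens, IsAffineOpen V →
      ∃ W : S'.Opens, IsCompact (W : Set S') ∧ π.base '' (W : Set S') = (V : Set S))
    {X : Scheme.{u}} (f : X ⟶ S) : EffectiveEpi (pullback.fst f π) := by
  have h : Presieve.singleton (pullback.fst f π) ∈ Scheme.fpqcPrecoverage X := by
    have := Precoverage.mem_coverings_of_isPullback (J := Scheme.fpqcPrecoverage) (fun _ : Unit => π)
      (by rw [Presieve.ofArrows_pUnit]; exact singleton_mem π hcov) f (fun _ => pullback.fst f π)
      (fun _ => pullback.snd f π) (fun _ => IsPullback.of_hasPullback f π)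
    rwa [Presieve.ofArrows_pUnit] at this
  rw [← Sieve.effectiveEpimorphic_singleton, Presieve.EffectiveEpimorphic.iff_forall_isSheafFor_yoneda]
  intro Z
  exact (GrothendieckTopology.Subcanonical.isSheaf_of_isRepresentable _).isSheafFor _
    (Precoverage.generate_mem_toGrothendieck h)

end Groth.Agent.MTDescent
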