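import Groth.Agent.MTDescent.Epi
import Groth.Agent.SchDescent.SheafDescAffine

/-! # Descent of affine monomorphisms along fpqc coverings -/

set_option autoImplicit false
set_option linter.style.haveILetI false
set_option backward.isDefEq.respectTransparency false
set_option maxHeartbeats 1000000

universe u

open CategoryTheory CategoryTheory.Limits AlgebraicGeometry

noncomputable section

namespace Groth.Agent.MTDescent

variable {S S' : Scheme.{u}}

/-- a monomorphism into the base change, affine over the cover, with a factor criterion on the kernel pair,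
descends to a monomorphism -/
theorem exists_descend_affine_mono (π : S' ⟶ S) [Flat π] [Surjective π]
    (hcov : ∀ V : S.Opens, IsAffineOpen V → ∃ W : S'.Opens, IsCompact (W : Set S') ∧ π.base '' (W : Set S') = (V : Set S))
    (G : Over S) {Z : Scheme.{u}} (j : Z ⟶ pullback G.hom π) [Mono j]
    [IsAffineHom (j ≫ pullback.snd G.hom π)]
    (hj : ∀ {W : Scheme.{u}} (w₁ w₂ : W ⟶ pullback G.hom π),
      w₁ ≫ pullback.fst G.hom π = w₂ ≫ pullback.fst G.hom π → (∃ l, l ≫ j = w₁) → ∃ l, l ≫ j = w₂) :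
    ∃ (Y : Scheme.{u}) (i : Y ⟶ G.left), Mono i ∧
      ∃ e : pullback (pullback.fst G.hom π) i ≅ Z, e.hom ≫ j = pullback.fst _ i := by
  have hex : ∀ {T : Scheme.{u}} (x₀ x₁ : T ⟶ S') (_ : x₀ ≫ π = x₁ ≫ π)
      (v : { v : T ⟶ Z // v ≫ j ≫ pullback.snd G.hom π = x₀ }),
      ∃ l : T ⟶ Z, l ≫ j ≫ pullback.fst G.hom π = v.1 ≫ j ≫ pullback.fst G.hom π ∧
        l ≫ j ≫ pullback.snd G.hom π = x₁ := by
    intro T x₀ x₁ h v
    have hc : (v.1 ≫ j ≫ pullback.fst G.hom π) ≫ G.hom = x₁ ≫ π := by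
      simp only [Category.assoc, pullback.condition]
      exact ((by simpa only [Category.assoc] using congrArg (· ≫ π) v.2) :
        v.1 ≫ j ≫ pullback.snd G.hom π ≫ π = x₀ ≫ π).trans h
    obtain ⟨l, hl⟩ := hj (v.1 ≫ j) (pullback.lift (v.1 ≫ j ≫ pullback.fst G.hom π) x₁ hc)
      (by rw [pullback.lift_fst, Category.assoc]) ⟨v.1, rfl⟩
    exact ⟨l, by rw [reassoc_of% hl, pullback.lift_fst], by rw [reassoc_of% hl, pullback.lift_snd]⟩
  choose gl hgl₁ hgl₂ using @hex
  have hext : ∀ {T : Scheme.{u}} (l l' : T ⟶ Z),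
      l ≫ j ≫ pullback.fst G.hom π = l' ≫ j ≫ pullback.fst G.hom π →
      l ≫ j ≫ pullback.snd G.hom π = l' ≫ j ≫ pullback.snd G.hom π → l = l' := fun l l' h₁ h₂ =>
    (cancel_mono j).1 (pullback.hom_ext (by simpa using h₁) (by simpa using h₂))
  let D : Desc.SchDD π :=
    { obj := Over.mk (j ≫ pullback.snd G.hom π)
      φ := fun T x₀ x₁ h =>
        { toFun := fun v => ⟨gl x₀ x₁ h v, hgl₂ x₀ x₁ h v⟩
          invFun := fun v => ⟨gl x₁ x₀ h.symm v, hgl₂ x₁ x₀ h.symm v⟩
          left_inv := fun v => Subtype.ext (hext _ _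
            ((hgl₁ x₁ x₀ h.symm _).trans (hgl₁ x₀ x₁ h v))
            ((hgl₂ x₁ x₀ h.symm _).trans v.2.symm))
          right_inv := fun v => Subtype.ext (hext _ _
            ((hgl₁ x₀ x₁ h _).trans (hgl₁ x₁ x₀ h.symm v))
            ((hgl₂ x₀ x₁ h _).trans v.2.symm)) }
      φ_natural := fun T T' g x₀ x₁ h h' v v' hv' => by
        refine hext _ _ ?_ ?_
        · refine (hgl₁ _ _ _ _).trans ?_
          rw [hv', Category.assoc, Category.assoc]
          exact congrArg (g ≫ ·) (hgl₁ _ _ _ _).symm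
        · refine (hgl₂ _ _ _ _).trans ?_
          rw [Category.assoc]
          exact congrArg (g ≫ ·) (hgl₂ _ _ _ _).symm
      φ_self := fun T x v => Subtype.ext (hext _ _ (hgl₁ _ _ _ _) ((hgl₂ _ _ _ _).trans v.2.symm))
      φ_comp := fun T x₀ x₁ x₂ h₀₁ h₁₂ v => Subtype.ext (hext _ _
        ((hgl₁ _ _ _ _).trans ((hgl₁ _ _ _ _).trans (hgl₁ x₀ x₂ _ v).symm))
        ((hgl₂ _ _ _ _).trans (hgl₂ x₀ x₂ _ v).symm)) }
  have hp : Presieve.ofArrows (fun _ : PUnit.{u + 1} ↦ S') (fun _ ↦ π) ∈ Scheme.fpqcPrecoverage S := by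
    rw [Presieve.ofArrows_pUnit]
    exact singleton_mem π hcov
  obtain ⟨U, ⟨e'⟩⟩ := SchDescent.effective_of_family (u' := fun _ : PUnit.{u + 1} ↦ π) @IsAffineHom
    (fun _ _ _ q h ↦ SchDescent.SheafDesc.isAffineHom_sigmaMap q h)
    (fun X' T' p _ _ _ _ D' h ↦ have : IsAffineHom D'.obj.hom := h; SchDescent.effective_of_isAffineHom D')
    hp ((Desc.SchDDFam.ofSchDD π).obj D) (fun _ ↦ inferInstanceAs (IsAffineHom (j ≫ pullback.snd G.hom π)))
  let E : (Desc.toDD π).obj U ≅ D := (Desc.SchDDFam.toSchDD π).mapIso e'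
  let el : pullback π U.hom ⟶ Z := Over.Hom.left (Desc.SchDD.Hom.hom E.hom)
  haveI : IsIso el := ⟨Over.Hom.left (Desc.SchDD.Hom.hom E.inv),
    congrArg (fun k : (Desc.toDD π).obj U ⟶ (Desc.toDD π).obj U ↦ k.hom.left) E.hom_inv_id,
    congrArg (fun k : D ⟶ D ↦ k.hom.left) E.inv_hom_id⟩
  have hel : el ≫ j ≫ pullback.snd G.hom π = pullback.fst π U.hom := Over.w E.hom.hom
  let σ : pullback U.hom π ⟶ pullback π U.hom := (pullbackSymmetry _ _).hom
  have hσ₁ : σ ≫ pullback.fst π U.hom = pullback.snd U.hom π := pullbackSymmetry_hom_comp_fst _ _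
  have hσ₂ : σ ≫ pullback.snd π U.hom = pullback.fst U.hom π := pullbackSymmetry_hom_comp_snd _ _
  haveI := effectiveEpi_fst π hcov U.hom
  let p := pullback.fst U.hom π
  let f₀ : pullback U.hom π ⟶ G.left := σ ≫ el ≫ j ≫ pullback.fst G.hom π
  have hd : ∀ {T : Scheme.{u}} (g₁ g₂ : T ⟶ pullback U.hom π), g₁ ≫ p = g₂ ≫ p → g₁ ≫ f₀ = g₂ ≫ f₀ := by
    intro T g₁ g₂ h
    let x₀ := g₁ ≫ pullback.snd U.hom π
    let x₁ := g₂ ≫ pullback.snd U.hom π
    have hx : x₀ ≫ π = x₁ ≫ π := by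
      simp only [x₀, x₁, Category.assoc, ← pullback.condition]
      simpa only [p, Category.assoc] using congrArg (· ≫ U.hom) h
    have hv : (g₁ ≫ σ) ≫ pullback.fst π U.hom = x₀ := by rw [Category.assoc, hσ₁]
    have hw : (g₁ ≫ σ ≫ el) ≫ j ≫ pullback.snd G.hom π = x₀ := by
      rw [Category.assoc, Category.assoc, hel, hσ₁]
    have hc := E.hom.comm x₀ x₁ hx ⟨g₁ ≫ σ, hv⟩ ⟨g₁ ≫ σ ≫ el, hw⟩ (Category.assoc _ _ _).symm
    have hcan : (((Desc.toDD π).obj U).φ x₀ x₁ hx ⟨g₁ ≫ σ, hv⟩).1 = g₂ ≫ σ := by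
      change (Desc.canMap π U x₀ x₁ hx ⟨g₁ ≫ σ, hv⟩).1 = _
      rw [Desc.canMap_val]
      apply pullback.hom_ext
      · rw [pullback.lift_fst, Category.assoc, hσ₁]
      · rw [pullback.lift_snd, Category.assoc, Category.assoc, hσ₂]
        exact h
    have h1 : gl x₀ x₁ hx ⟨g₁ ≫ σ ≫ el, hw⟩ = (g₂ ≫ σ) ≫ el := hc.trans (congrArg (· ≫ el) hcan)
    have h2 := hgl₁ x₀ x₁ hx ⟨g₁ ≫ σ ≫ el, hw⟩
    rw [h1] at h2
    simpa only [f₀, Category.assoc] using h2.symm
  let m : U.left ⟶ G.left := EffectiveEpi.desc p f₀ hd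
  have hm : p ≫ m = f₀ := EffectiveEpi.fac _ _ _
  have hmG : m ≫ G.hom = U.hom := by
    rw [← cancel_epi p, reassoc_of% hm]
    simp only [f₀, Category.assoc, pullback.condition]
    rw [reassoc_of% hel, reassoc_of% hσ₁]
    exact pullback.condition.symm
  refine ⟨U.left, m, ⟨fun {W} g₁ g₂ h => ?_⟩, ?_⟩
  · have hU : g₁ ≫ U.hom = g₂ ≫ U.hom := by rw [← hmG, reassoc_of% h]
    haveI := effectiveEpi_fst π hcov (g₁ ≫ U.hom)
    let r := pullback.fst (g₁ ≫ U.hom) π
    let a₁ : pullback (g₁ ≫ U.hom) π ⟶ pullback U.hom π :=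
      pullback.lift (r ≫ g₁) (pullback.snd _ _) (by rw [Category.assoc, pullback.condition])
    let a₂ : pullback (g₁ ≫ U.hom) π ⟶ pullback U.hom π :=
      pullback.lift (r ≫ g₂) (pullback.snd _ _) (by rw [Category.assoc, ← hU, pullback.condition])
    have ha : a₁ ≫ σ ≫ el = a₂ ≫ σ ≫ el := by
      refine hext _ _ ?_ ?_
      · have h₁ : a₁ ≫ p ≫ m = a₂ ≫ p ≫ m := by
          simp only [a₁, a₂, p, pullback.lift_fst_assoc, Category.assoc, h]
        rw [hm] at h₁
        simpa only [f₀, Category.assoc] using h₁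
      · simp only [Category.assoc, hel, hσ₁, a₁, a₂, pullback.lift_snd]
    have hiso : IsIso (σ ≫ el) := inferInstance
    have ha' : a₁ = a₂ := (cancel_mono (σ ≫ el)).1 ha
    have := congrArg (· ≫ p) ha'
    simp only [a₁, a₂, p, pullback.lift_fst] at this
    exact (cancel_epi r).1 this
  · let b : pullback (pullback.fst G.hom π) m ⟶ pullback U.hom π :=
      pullback.lift (pullback.snd _ m) (pullback.fst _ m ≫ pullback.snd G.hom π) (by
        rw [← hmG, ← pullback.condition_assoc, Category.assoc, ← pullback.condition])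
    let c : pullback U.hom π ⟶ pullback (pullback.fst G.hom π) m :=
      pullback.lift (σ ≫ el ≫ j) p (by rw [hm]; simp only [f₀, Category.assoc])
    have hc₂ : c ≫ b = 𝟙 _ := by
      apply pullback.hom_ext
      · simp [b, c, p]
      · simp only [b, c, Category.assoc, pullback.lift_snd, pullback.lift_fst_assoc, Category.id_comp, hel, hσ₁]
    have hb : b ≫ σ ≫ el ≫ j = pullback.fst _ m := by
      apply pullback.hom_ext
      · have : b ≫ p ≫ m = pullback.fst _ m ≫ pullback.fst G.hom π := by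
          rw [← Category.assoc, show b ≫ p = pullback.snd _ m from pullback.lift_fst _ _ _, pullback.condition]
        rw [hm] at this
        simpa only [f₀, Category.assoc] using this
      · simp only [Category.assoc, hel, hσ₁, b, pullback.lift_snd]
    have hc₁ : b ≫ c = 𝟙 _ := by
      apply pullback.hom_ext
      · simp only [c, Category.assoc, pullback.lift_fst, Category.id_comp]
        exact hb
      · simp only [b, c, p, Category.assoc, pullback.lift_snd, pullback.lift_fst, Category.id_comp]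
    refine ⟨(⟨b, c, hc₁, hc₂⟩ : _ ≅ _) ≪≫ asIso (σ ≫ el), ?_⟩
    simp only [Iso.trans_hom, asIso_hom, Category.assoc]
    exact hb

end Groth.Agent.MTDescent
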