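import Groth.Agent.MTDescent.Epi
import Groth.Agent.FpqcDescent.IdealGlue
import Groth.Agent.FpqcDescent.Props
import Groth.Agent.SubDescent.FlatEmb
import Mathlib.AlgebraicGeometry.Morphisms.UniversallyOpen
import Mathlib.AlgebraicGeometry.Morphisms.Immersion

/-! # Descent of quasi-compact immersions along fpqc coverings -/

set_option autoImplicit false
set_option linter.style.haveILetI false
set_option backward.isDefEq.respectTransparency false

universe u

open CategoryTheory CategoryTheory.Limits AlgebraicGeometry Topology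

noncomputable section

namespace Groth.Agent.MTDescent

/-- taking the closure of the range of a quasi-compact morphism commutes with flat preimages -/
theorem closure_preimage_range {R Q Z : Scheme.{u}} (j : Z ⟶ Q) [QuasiCompact j] (a : R ⟶ Q) [Flat a] :
    closure (a ⁻¹' Set.range j) = a ⁻¹' closure (Set.range j) := by
  refine Set.Subset.antisymm (a.continuous.closure_preimage_subset _) fun x hx => ?_
  obtain ⟨z, -, hz⟩ := SubDescent.exists_specializes_of_mem_closure_image j (F := Set.univ) isClosed_univ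
    (show a x ∈ closure (j '' Set.univ) by rwa [Set.image_univ])
  obtain ⟨w, hwx, hw⟩ := (Flat.generalizingMap (f := a)) hz
  exact hwx.mem_closed isClosed_closure (subset_closure ⟨z, hw.symm⟩)

/-- quasi-compact immersions descend along fpqc coverings -/
theorem exists_descend_immersion {X Q Z : Scheme.{u}} (q : Q ⟶ X)
    (hq : Presieve.singleton q ∈ Scheme.fpqcPrecoverage X) (j : Z ⟶ Q) [IsImmersion j] [QuasiCompact j]
    (hj : ∀ {W : Scheme.{u}} (w₁ w₂ : W ⟶ Q), w₁ ≫ q = w₂ ≫ q → (∃ l, l ≫ j = w₁) → ∃ l, l ≫ j = w₂) :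
    ∃ (Y : Scheme.{u}) (i : Y ⟶ X), IsImmersion i ∧
      ∃ e : pullback q i ≅ Z, e.hom ≫ j = pullback.fst q i := by
  haveI hflat : Flat q := ((Scheme.singleton_mem_precoverage_iff _ q).mp hq.2).2
  have hsurj : Function.Surjective q := ((Scheme.singleton_mem_precoverage_iff _ q).mp hq.2).1
  let a := pullback.fst q q
  let b := pullback.snd q q
  have hrange : a ⁻¹' Set.range j = b ⁻¹' Set.range j := by
    rw [← Scheme.Pullback.range_fst a j, ← Scheme.Pullback.range_fst b j]
    refine Set.Subset.antisymm ?_ ?_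
    · rintro _ ⟨z, rfl⟩
      obtain ⟨l, hl⟩ := hj (pullback.fst a j ≫ a) (pullback.fst a j ≫ b)
        (by rw [Category.assoc, Category.assoc]; exact congrArg (_ ≫ ·) (pullback.condition (f := q) (g := q))) ⟨pullback.snd a j, pullback.condition.symm⟩
      exact ⟨pullback.lift (pullback.fst a j) l hl.symm z,
        congrArg (fun m => m z) (pullback.lift_fst (pullback.fst a j) l hl.symm)⟩
    · rintro _ ⟨z, rfl⟩
      obtain ⟨l, hl⟩ := hj (pullback.fst b j ≫ b) (pullback.fst b j ≫ a)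
        (by rw [Category.assoc, Category.assoc]; exact congrArg (_ ≫ ·) (pullback.condition (f := q) (g := q)).symm) ⟨pullback.snd b j, pullback.condition.symm⟩
      exact ⟨pullback.lift (pullback.fst b j) l hl.symm z,
        congrArg (fun m => m z) (pullback.lift_fst (pullback.fst b j) l hl.symm)⟩
  let U' : Q.Opens := j.coborderRange
  have hU' : (U' : Set Q) = (closure (Set.range j) \ Set.range j)ᶜ := by simp [U', Scheme.Hom.coborderRange, coborder]
  have hsat : a ⁻¹' (U' : Set Q) = b ⁻¹' (U' : Set Q) := by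
    simp only [hU', Set.preimage_compl, Set.preimage_sdiff, ← closure_preimage_range, hrange]
  let O : X.Opens := ⟨q '' (U' : Set Q), by
    refine FpqcDescent.isOpen_of_fpqcPrecoverage hq _ ?_
    rintro S' f ⟨⟩
    convert U'.isOpen using 1
    refine Set.Subset.antisymm ?_ (Set.subset_preimage_image _ _)
    rintro y ⟨y', hy', hyy'⟩
    obtain ⟨p, hp1, hp2⟩ := Scheme.Pullback.exists_preimage_pullback (f := q) (g := q) y' y hyy'
    have : p ∈ a ⁻¹' (U' : Set Q) := show a p ∈ U' from hp1 ▸ hy'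
    rw [hsat] at this
    exact hp2 ▸ this⟩
  have hOU : q ⁻¹ᵁ O = U' := by
    refine TopologicalSpace.Opens.ext (Set.Subset.antisymm ?_ (Set.subset_preimage_image _ _))
    rintro y ⟨y', hy', hyy'⟩
    obtain ⟨p, hp1, hp2⟩ := Scheme.Pullback.exists_preimage_pullback (f := q) (g := q) y' y hyy'
    have : p ∈ a ⁻¹' (U' : Set Q) := show a p ∈ U' from hp1 ▸ hy'
    rw [hsat] at this
    exact hp2 ▸ this
  let q₁ : (q ⁻¹ᵁ O).toScheme ⟶ O.toScheme := q ∣_ O
  have sq : IsPullback (q ⁻¹ᵁ O).ι q₁ q O.ι := (isPullback_morphismRestrict q O).flip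
  have hq₁ : Presieve.ofArrows (fun _ : PUnit.{u+1} => (q ⁻¹ᵁ O).toScheme) (fun _ => q₁) ∈
      Scheme.fpqcPrecoverage O.toScheme :=
    Precoverage.mem_coverings_of_isPullback (J := Scheme.fpqcPrecoverage) (fun _ : PUnit.{u+1} => q)
      (by rw [Presieve.ofArrows_pUnit]; exact hq) O.ι (fun _ => q₁) (fun _ => (q ⁻¹ᵁ O).ι)
      (fun _ => (isPullback_morphismRestrict q O))
  let j₁ : Z ⟶ (q ⁻¹ᵁ O).toScheme := j.liftCoborder ≫ (Q.isoOfEq hOU.symm).hom
  have hj₁ : j₁ ≫ (q ⁻¹ᵁ O).ι = j := by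
    simp only [j₁, Category.assoc, Scheme.isoOfEq_hom_ι]
    exact j.liftCoborder_ι
  haveI : IsClosedImmersion j₁ := by dsimp [j₁]; infer_instance
  let a₁ := pullback.fst q₁ q₁
  let b₁ := pullback.snd q₁ q₁
  let c : pullback q₁ q₁ ⟶ pullback q q :=
    pullback.map q₁ q₁ q q (q ⁻¹ᵁ O).ι (q ⁻¹ᵁ O).ι O.ι sq.w.symm sq.w.symm
  have hcomap : j₁.ker.comap a₁ = j₁.ker.comap b₁ := by
    have hker : ∀ {T : Scheme.{u}} (t : T ⟶ pullback q₁ q₁) (x y : pullback q₁ q₁ ⟶ (q ⁻¹ᵁ O).toScheme)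
        (a' b' : pullback q q ⟶ Q), x ≫ (q ⁻¹ᵁ O).ι = c ≫ a' → y ≫ (q ⁻¹ᵁ O).ι = c ≫ b' →
        (∀ {W : Scheme.{u}} (w : W ⟶ pullback q q), (∃ l, l ≫ j = w ≫ a') → ∃ l, l ≫ j = w ≫ b') →
        (j₁.ker.comap x).comap t = ⊥ → (j₁.ker.comap y).comap t = ⊥ := by
      intro T t x y a' b' hx hy hab h
      have hi : ∀ {W : Scheme.{u}} (w : W ⟶ (q ⁻¹ᵁ O).toScheme),
          j₁.ker.comap w = ⊥ ↔ ∃ l, l ≫ j = w ≫ (q ⁻¹ᵁ O).ι := by
        intro W w
        rw [← le_bot_iff, ← Scheme.IdealSheafData.le_map_iff_comap_le, Scheme.IdealSheafData.map_bot]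
        constructor
        · intro hle
          exact ⟨IsClosedImmersion.lift j₁ w hle, by
            rw [← hj₁, ← Category.assoc, IsClosedImmersion.lift_fac]⟩
        · rintro ⟨l, hl⟩
          rw [← hj₁, ← Category.assoc] at hl
          rw [← (cancel_mono _).1 hl]
          exact Scheme.Hom.le_ker_comp _ _
      rw [← Scheme.IdealSheafData.comap_comp, hi, Category.assoc, hx] at h
      rw [← Scheme.IdealSheafData.comap_comp, hi, Category.assoc, hy]
      simp only [← Category.assoc] at h ⊢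
      exact hab _ h
    have hle : ∀ (I J : (pullback q₁ q₁).IdealSheafData),
        (∀ {T : Scheme.{u}} (t : T ⟶ pullback q₁ q₁), J.comap t = ⊥ → I.comap t = ⊥) → I ≤ J := by
      intro I J h
      have := h J.subschemeι (by
        rw [← le_bot_iff, ← Scheme.IdealSheafData.le_map_iff_comap_le, Scheme.IdealSheafData.map_bot,
          Scheme.IdealSheafData.ker_subschemeι])
      rwa [← le_bot_iff, ← Scheme.IdealSheafData.le_map_iff_comap_le, Scheme.IdealSheafData.map_bot,
        Scheme.IdealSheafData.ker_subschemeι] at this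
    have ha : a₁ ≫ (q ⁻¹ᵁ O).ι = c ≫ a := (pullback.lift_fst _ _ _).symm
    have hb : b₁ ≫ (q ⁻¹ᵁ O).ι = c ≫ b := (pullback.lift_snd _ _ _).symm
    have hab : ∀ {W : Scheme.{u}} (w : W ⟶ pullback q q), (∃ l, l ≫ j = w ≫ a) → ∃ l, l ≫ j = w ≫ b :=
      fun w => hj _ _ (by simp only [Category.assoc, a, b, pullback.condition])
    have hba : ∀ {W : Scheme.{u}} (w : W ⟶ pullback q q), (∃ l, l ≫ j = w ≫ b) → ∃ l, l ≫ j = w ≫ a :=
      fun w => hj _ _ (by simp only [Category.assoc, a, b, pullback.condition])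
    exact le_antisymm (hle _ _ fun t => hker t b₁ a₁ b a hb ha hba)
      (hle _ _ fun t => hker t a₁ b₁ a b ha hb hab)
  obtain ⟨J, hJ, -⟩ := FpqcDescent.existsUnique_descent hq₁ (fun _ => j₁.ker) (fun _ _ => hcomap)
  refine ⟨J.subscheme, J.subschemeι ≫ O.ι, inferInstance, ?_⟩
  let e₁ : pullback q₁ J.subschemeι ≅ Z :=
    (J.comapIso q₁).symm ≪≫ eqToIso (congrArg Scheme.IdealSheafData.subscheme (hJ PUnit.unit)) ≪≫ (asIso j₁.toImage).symm
  have he₁ : e₁.hom ≫ j₁ = pullback.fst q₁ J.subschemeι := by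
    have h1 : (asIso j₁.toImage).inv ≫ j₁ = j₁.imageι := by
      rw [Iso.inv_comp_eq]; exact j₁.toImage_imageι.symm
    have h2 : ∀ (I I' : (q ⁻¹ᵁ O).toScheme.IdealSheafData) (hI : I = I'),
        eqToHom (congrArg Scheme.IdealSheafData.subscheme hI) ≫ I'.subschemeι = I.subschemeι := by
      rintro I _ rfl; simp
    simp only [e₁, Iso.trans_hom, Iso.symm_hom, Category.assoc, eqToIso.hom, h1]
    rw [show j₁.imageι = j₁.ker.subschemeι from rfl, h2 _ _ (hJ PUnit.unit), Iso.inv_comp_eq]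
    exact (Scheme.IdealSheafData.comapIso_hom_fst J q₁).symm
  have sq' : IsPullback (pullback.fst q₁ J.subschemeι ≫ (q ⁻¹ᵁ O).ι) (pullback.snd q₁ J.subschemeι) q
      (J.subschemeι ≫ O.ι) :=
    ((IsPullback.of_hasPullback q₁ J.subschemeι).flip.paste_vert sq.flip).flip
  refine ⟨sq'.isoPullback.symm ≪≫ e₁, ?_⟩
  rw [← hj₁, Iso.trans_hom, Iso.symm_hom, Category.assoc, reassoc_of% he₁, Iso.inv_comp_eq]
  exact sq'.isoPullback_hom_fst.symm

end Groth.Agent.MTDescent
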