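import Groth.Agent.MTDescent.CentralDescent
import Groth.Agent.MTDescent.ImmersionDescent
import Groth.Agent.MTBridge.SubgroupsMain
import Groth.Agent.MTBridge.Centralizer
import Groth.Agent.MTBridge.Clopen

/-! # Descent of central subgroups of multiplicative type -/

set_option autoImplicit false
set_option linter.style.haveILetI false
set_option linter.unusedSectionVars false
set_option backward.isDefEq.respectTransparency false
set_option maxHeartbeats 1000000
set_option synthInstance.maxHeartbeats 400000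

universe u

open CategoryTheory CategoryTheory.Limits MonoidalCategory CartesianMonoidalCategory AlgebraicGeometry
open scoped CategoryTheory.Obj MonObj
open Groth.Agent.MTBridge (toBC toBC_mul toBC_inj toBC_comp exists_toBC)

noncomputable section

namespace Groth.Agent.MTDescent

variable {S : Scheme.{u}}

theorem left_toBC_fst_eq {T : Scheme.{u}} (d : T ⟶ S) {G : Over S} {X : Over T} (c : (Over.map d).obj X ⟶ G) :
    (toBC d c).left ≫ pullback.fst G.hom d = c.left := by
  simp [MTBridge.toBC, Over.mapPullbackAdj]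

/-- A clopen of `B ×_S B` containing the diagonal is everything, for geometrically connected fibres. -/
theorem clopen_eq_top {B : Over S} (hconn : ∀ s : S, ConnectedSpace ↥(pullback B.hom (Red.geomPt s)))
    (U : (B ⊗ B).left.Opens) (hUc : IsClosed (U : Set (B ⊗ B).left))
    (hδ : ∀ b, (lift (𝟙 B) (𝟙 B)).left b ∈ U) : U = ⊤ := by
  refine top_le_iff.mp fun y _ => ?_
  let pr : (B ⊗ B).left ⟶ B.left := (fst B B).left
  let δ : B.left ⟶ (B ⊗ B).left := (lift (𝟙 B) (𝟙 B)).left
  have hδf : δ ≫ pr = 𝟙 _ := congr(($(lift_fst (𝟙 B) (𝟙 B))).left)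
  let b := pr y
  let s := B.hom b
  have hfib : _root_.IsPreconnected (pr ⁻¹' {b}) := by
    haveI : ConnectedSpace ↥(pullback B.hom (B.left.fromSpecResidueField b ≫ B.hom)) := by
      rw [← Scheme.Hom.SpecMap_residueFieldMap_fromSpecResidueField B.hom b]
      exact connectedSpace_pullback B.hom hconn _ s _
    let i := pullbackRightPullbackFstIso B.hom B.hom (B.left.fromSpecResidueField b)
    let i' : pullback B.hom (B.left.fromSpecResidueField b ≫ B.hom) ≅ pullback pr (B.left.fromSpecResidueField b) :=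
      pullbackSymmetry _ _ ≪≫ i.symm ≪≫ pullbackSymmetry _ _
    haveI : ConnectedSpace ↥(pr.fiber b) := i'.hom.surjective.connectedSpace i'.hom.continuous
    exact ((pr.fiberHomeo b).surjective.connectedSpace (pr.fiberHomeo b).continuous |>
      fun h => (isConnected_iff_connectedSpace.mpr h).isPreconnected)
  exact hfib.subset_isClopen ⟨hUc, U.2⟩ ⟨δ b, congrArg (fun m : B.left ⟶ B.left => m b) hδf, hδ b⟩ rfl

section Pull

variable {G B : Over S} [GrpObj G] {H' : Over B.left} [GrpObj H'] (j' : H' ⟶ Red.bc B.hom G)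
  {P : Over S} (x : P ⟶ B)

/-- the subgroup pulled back to `P` -/
def pullMap : Red.bc x.left H' ⟶ Red.bc P.hom G :=
  Over.homMk (pullback.lift (pullback.fst H'.hom x.left ≫ j'.left ≫ pullback.fst G.hom B.hom)
    (pullback.snd H'.hom x.left) (by
      have e : j'.left ≫ pullback.snd G.hom B.hom = H'.hom := Over.w j'
      simp only [Category.assoc, pullback.condition, reassoc_of% e]
      rw [pullback.condition_assoc, Over.w x]))
    (pullback.lift_snd _ _ _)

theorem isImmersion_pullMap [IsImmersion j'.left] : IsImmersion (pullMap j' x).left := by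
  let m : (Red.bc P.hom G).left ⟶ (Red.bc B.hom G).left :=
    pullback.lift (pullback.fst G.hom P.hom) (pullback.snd G.hom P.hom ≫ x.left)
      (by rw [Category.assoc, Over.w x, pullback.condition])
  have sqm : IsPullback m (Red.bc P.hom G).hom (Red.bc B.hom G).hom x.left := by
    refine IsPullback.of_right ?_ (pullback.lift_snd _ _ _) (IsPullback.of_hasPullback G.hom B.hom)
    rw [pullback.lift_fst, Over.w x]
    exact IsPullback.of_hasPullback G.hom P.hom
  have sq : IsPullback (pullback.fst H'.hom x.left) (pullMap j' x).left j'.left m := by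
    refine IsPullback.of_bot ?_ ?_ sqm
    · rw [Over.w j', Over.w (pullMap j' x)]
      exact IsPullback.of_hasPullback H'.hom x.left
    · apply pullback.hom_ext
      · simp [m, pullMap]
      · have e : j'.left ≫ pullback.snd G.hom B.hom = H'.hom := Over.w j'
        simp [m, pullMap, e, pullback.condition]
  exact MorphismProperty.of_isPullback sq ‹IsImmersion j'.left›

theorem pullMap_apply {X : Over P.left} (a : (Over.map x.left).obj X ⟶ H')
    (c : (Over.map B.hom).obj ((Over.map x.left).obj X) ⟶ G) (h : toBC B.hom c = a ≫ j') :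
    toBC x.left a ≫ pullMap j' x =
      toBC P.hom ((Over.isoMk (Iso.refl _) (by simp) :
        (Over.map P.hom).obj X ≅ (Over.map B.hom).obj ((Over.map x.left).obj X)).hom ≫ c) := by
  ext1
  refine pullback.hom_ext ?_ ((Category.assoc _ _ _).trans ?_)
  · rw [left_toBC_fst_eq, Over.comp_left, Category.assoc]
    simp only [pullMap, Over.homMk_left, pullback.lift_fst]
    rw [← Category.assoc, left_toBC_fst_eq, ← Category.assoc, ← Over.comp_left, ← h, left_toBC_fst_eq]
    simp
  · exact ((congrArg (_ ≫ ·) (Over.w (pullMap j' x))).trans (Over.w (toBC x.left a))).trans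
      (Over.w (toBC P.hom _)).symm

theorem isMonHom_pullMap [IsMonHom j'] : IsMonHom (pullMap j' x) := isMonHom_of_points _ fun X p q => by
  obtain ⟨a, rfl⟩ := exists_toBC x.left p
  obtain ⟨b, rfl⟩ := exists_toBC x.left q
  obtain ⟨c, hc⟩ := exists_toBC B.hom (a ≫ j')
  obtain ⟨d, hd⟩ := exists_toBC B.hom (b ≫ j')
  rw [← toBC_mul, pullMap_apply j' x a c hc, pullMap_apply j' x b d hd,
    pullMap_apply j' x (a * b) (c * d) (by rw [toBC_mul, MonObj.mul_comp, hc, hd]), MonObj.comp_mul, toBC_mul]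

theorem central_pullMap
    (hc : ∀ (X : Over B.left) (g : X ⟶ Red.bc B.hom G) (h : X ⟶ H'), g * (h ≫ j') = (h ≫ j') * g)
    (X : Over P.left) (g : X ⟶ Red.bc P.hom G) (h : X ⟶ Red.bc x.left H') :
    g * (h ≫ pullMap j' x) = (h ≫ pullMap j' x) * g := by
  obtain ⟨a, rfl⟩ := exists_toBC x.left h
  obtain ⟨g₀, rfl⟩ := exists_toBC P.hom g
  obtain ⟨c, hc'⟩ := exists_toBC B.hom (a ≫ j')
  rw [pullMap_apply j' x a c hc', ← toBC_mul, ← toBC_mul]
  let ε : (Over.map P.hom).obj X ≅ (Over.map B.hom).obj ((Over.map x.left).obj X) :=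
    Over.isoMk (Iso.refl _) (by simp)
  have h1 := hc _ (toBC B.hom (ε.inv ≫ g₀)) a
  rw [← hc', ← toBC_mul, ← toBC_mul] at h1
  have h2 := congrArg (ε.hom ≫ ·) (toBC_inj B.hom h1)
  simp only [MonObj.comp_mul, Iso.hom_inv_id_assoc] at h2
  rw [h2]

end Pull

/-- Uniqueness: subgroups with the same base change along an fpqc covering coincide. -/
theorem exists_iso_of_bc {G : Over S} {B : Over S} [Flat B.hom] [Surjective B.hom]
    (hcov : ∀ V : S.Opens, IsAffineOpen V → ∃ W : B.left.Opens, IsCompact (W : Set B.left) ∧ B.hom.base '' (W : Set B.left) = (V : Set S))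
    {H₁ H₂ : Over S} (j₁ : H₁ ⟶ G) (j₂ : H₂ ⟶ G) [Mono j₁.left] [Mono j₂.left]
    (φ : Red.bc B.hom H₁ ≅ Red.bc B.hom H₂)
    (hφ : φ.hom ≫ (Over.pullback B.hom).map j₂ = (Over.pullback B.hom).map j₁) :
    ∃ ψ : H₁ ≅ H₂, ψ.hom ≫ j₂ = j₁ := by
  have one : ∀ {K L : Over S} (k : K ⟶ G) (l : L ⟶ G) [Mono l.left] (f : Red.bc B.hom K ⟶ Red.bc B.hom L),
      f ≫ (Over.pullback B.hom).map l = (Over.pullback B.hom).map k → ∃ u : K ⟶ L, u ≫ l = k := by
    intro K L k l _ f hf
    haveI := effectiveEpi_fst B.hom hcov K.hom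
    have e : (f.left ≫ pullback.fst L.hom B.hom) ≫ l.left = pullback.fst K.hom B.hom ≫ k.left := by
      have h1 := congr(($hf).left ≫ pullback.fst G.hom B.hom)
      rw [Over.comp_left, Category.assoc, MTBridge.map_left_fst, MTBridge.map_left_fst] at h1
      rw [Category.assoc]
      exact h1
    have hd : ∀ {Z : Scheme.{u}} (g₁ g₂ : Z ⟶ pullback K.hom B.hom),
        g₁ ≫ pullback.fst K.hom B.hom = g₂ ≫ pullback.fst K.hom B.hom →
        g₁ ≫ f.left ≫ pullback.fst L.hom B.hom = g₂ ≫ f.left ≫ pullback.fst L.hom B.hom := by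
      intro Z g₁ g₂ h
      rw [← cancel_mono l.left]
      simp only [Category.assoc] at e ⊢
      rw [e, reassoc_of% h]
    let m := EffectiveEpi.desc (pullback.fst K.hom B.hom) (f.left ≫ pullback.fst L.hom B.hom) hd
    have hm : m ≫ l.left = k.left := by
      rw [← cancel_epi (pullback.fst K.hom B.hom), ← Category.assoc, EffectiveEpi.fac, e]
    exact ⟨Over.homMk m (by rw [← Over.w l, reassoc_of% hm, Over.w k]), Over.OverMorphism.ext hm⟩
  obtain ⟨u, hu⟩ := one j₁ j₂ φ.hom hφ
  obtain ⟨v, hv⟩ := one j₂ j₁ φ.inv (by rw [Iso.inv_comp_eq, hφ])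
  haveI : Mono j₁ := Over.mono_of_mono_left j₁
  haveI : Mono j₂ := Over.mono_of_mono_left j₂
  exact ⟨⟨u, v, by rw [← cancel_mono j₁, Category.assoc, hv, hu, Category.id_comp],
    by rw [← cancel_mono j₂, Category.assoc, hu, hv, Category.id_comp]⟩, hu⟩

/-- the fpqc covering condition composes -/
theorem cov_comp {U T : Scheme.{u}} (g : U ⟶ T) (π : T ⟶ S)
    (hg : ∀ V : T.Opens, IsAffineOpen V → ∃ W : U.Opens, IsCompact (W : Set U) ∧ g.base '' (W : Set U) = (V : Set T))
    (hπ : ∀ V : S.Opens, IsAffineOpen V → ∃ W : T.Opens, IsCompact (W : Set T) ∧ π.base '' (W : Set T) = (V : Set S))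
    (V : S.Opens) (hV : IsAffineOpen V) :
    ∃ W : U.Opens, IsCompact (W : Set U) ∧ (g ≫ π).base '' (W : Set U) = (V : Set S) := by
  obtain ⟨W₁, hW₁, hW₁V⟩ := hπ V hV
  obtain ⟨𝒱, h𝒱, h𝒱f, hW₁e⟩ := T.isBasis_affineOpens.exists_finite_of_isCompact hW₁
  choose W hW hWim using fun v : 𝒱 => hg v.1 (h𝒱 v.2)
  haveI := h𝒱f.to_subtype
  refine ⟨⨆ v, W v, ?_, ?_⟩
  · rw [TopologicalSpace.Opens.coe_iSup]
    exact isCompact_iUnion hW
  · rw [← hW₁V, Scheme.Hom.comp_base, TopCat.coe_comp, Set.image_comp]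
    congr 1
    rw [TopologicalSpace.Opens.coe_iSup, Set.image_iUnion, hW₁e, TopologicalSpace.Opens.coe_sSup]
    simp only [hWim]
    simp [Set.iUnion_coe_set]

/-- A descended monomorphism underlying a subgroup is a subgroup. -/
theorem exists_subgroup_of_descended {G B : Over S} [GrpObj G] [Flat B.hom] [Surjective B.hom]
    (hcov : ∀ V : S.Opens, IsAffineOpen V → ∃ W : B.left.Opens, IsCompact (W : Set B.left) ∧ B.hom.base '' (W : Set B.left) = (V : Set S))
    {H' : Over B.left} [GrpObj H'] (hH' : SGA3x.IsMultTypeFT H') (j' : H' ⟶ Red.bc B.hom G) [IsMonHom j']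
    [Mono j'.left] {Y : Scheme.{u}} (i : Y ⟶ G.left) (hi : Mono i)
    (e : pullback (pullback.fst G.hom B.hom) i ≅ H'.left) (he : e.hom ≫ j'.left = pullback.fst _ i) :
    ∃ (_ : GrpObj (Over.mk (i ≫ G.hom))) (j : Over.mk (i ≫ G.hom) ⟶ G), IsMonHom j ∧ j.left = i ∧
      SGA3x.IsMultTypeFT (Over.mk (i ≫ G.hom)) ∧
      ∃ φ : Red.bc B.hom (Over.mk (i ≫ G.hom)) ≅ H', φ.hom ≫ j' = (Over.pullback B.hom).map j := by
  let q : pullback G.hom B.hom ⟶ G.left := pullback.fst G.hom B.hom
  let H : Over S := Over.mk (i ≫ G.hom)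
  let jH : H ⟶ G := Over.homMk i rfl
  haveI : Mono jH.left := hi
  haveI : Mono jH := Over.mono_of_mono_left jH
  have hfac : ∀ (T : Over S) (g : T ⟶ G), (∃ l, l ≫ jH = g) ↔
      ∃ l, l ≫ j'.left = pullback.lift (pullback.fst T.hom B.hom ≫ g.left) (pullback.snd T.hom B.hom)
        (by rw [Category.assoc, Over.w g, pullback.condition]) := by
    intro T g
    constructor
    · rintro ⟨l, rfl⟩
      refine ⟨pullback.lift (pullback.lift (pullback.fst T.hom B.hom ≫ (l ≫ jH).left) (pullback.snd T.hom B.hom)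
        (by rw [Category.assoc, Over.w, pullback.condition])) (pullback.fst T.hom B.hom ≫ l.left) (by
          simp only [pullback.lift_fst]
          simp [jH]) ≫ e.hom, ?_⟩
      rw [Category.assoc, he, pullback.lift_fst]
    · rintro ⟨l, hl⟩
      haveI := effectiveEpi_fst B.hom hcov T.hom
      let w : pullback T.hom B.hom ⟶ Y := l ≫ e.inv ≫ pullback.snd q i
      have hw : w ≫ i = pullback.fst T.hom B.hom ≫ g.left := by
        simp only [w, Category.assoc, ← pullback.condition]
        rw [← he]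
        simp only [Category.assoc, Iso.inv_hom_id_assoc]
        rw [reassoc_of% hl]
        exact pullback.lift_fst _ _ _
      let m := EffectiveEpi.desc (pullback.fst T.hom B.hom) w (fun g₁ g₂ h => by
        rw [← cancel_mono i, Category.assoc g₁ w i, Category.assoc g₂ w i, hw, reassoc_of% h])
      have hm : m ≫ i = g.left := by
        rw [← cancel_epi (pullback.fst T.hom B.hom), ← Category.assoc, EffectiveEpi.fac, hw]
      exact ⟨Over.homMk m (by
        change m ≫ i ≫ G.hom = T.hom
        rw [reassoc_of% hm, Over.w g]), Over.OverMorphism.ext hm⟩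
  let TB : ∀ T : Over S, Over B.left := fun T => Over.mk (pullback.snd T.hom B.hom)
  have hpt : ∀ (T : Over S) (g : T ⟶ G), (∃ l, l ≫ jH = g) ↔
      ∃ l : TB T ⟶ H', l ≫ j' = toBC B.hom ((Over.homMk (pullback.fst T.hom B.hom)
        pullback.condition : (Over.map B.hom).obj (TB T) ⟶ T) ≫ g) := by
    intro T g
    rw [hfac]
    have hl : (toBC B.hom ((Over.homMk (pullback.fst T.hom B.hom)
        pullback.condition : (Over.map B.hom).obj (TB T) ⟶ T) ≫ g)).left =
        pullback.lift (pullback.fst T.hom B.hom ≫ g.left) (pullback.snd T.hom B.hom)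
          (by rw [Category.assoc, Over.w g, pullback.condition]) := by
      apply pullback.hom_ext
      · rw [left_toBC_fst_eq, pullback.lift_fst]; rfl
      · rw [pullback.lift_snd]; exact Over.w (toBC B.hom _)
    constructor
    · rintro ⟨l, hl'⟩
      refine ⟨Over.homMk l ?_, Over.OverMorphism.ext (hl'.trans hl.symm)⟩
      change l ≫ H'.hom = pullback.snd T.hom B.hom
      rw [← Over.w j', reassoc_of% hl']
      exact pullback.lift_snd _ _ _
    · rintro ⟨l, hl'⟩
      exact ⟨l.left, (congr(($hl').left)).trans hl⟩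
  obtain ⟨hH, hjH⟩ : ∃ _ : GrpObj H, IsMonHom jH := by
    refine MTBridge.exists_grpObj_of_div jH ?_ fun T k₁ k₂ => ?_
    · refine (hpt _ _).mpr ⟨1, ?_⟩
      rw [MonObj.one_comp, show η[G] = (1 : 𝟙_ (Over S) ⟶ G) by rw [Hom.one_def, toUnit_unit, Category.id_comp],
        MonObj.comp_one]
      exact (map_one (MonoidHom.mk' (fun x : (Over.map B.hom).obj _ ⟶ G => toBC B.hom x) (toBC_mul B.hom))).symm
    · obtain ⟨l₁, hl₁⟩ := (hpt _ _).mp ⟨k₁, rfl⟩
      obtain ⟨l₂, hl₂⟩ := (hpt _ _).mp ⟨k₂, rfl⟩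
      refine (hpt _ _).mpr ⟨l₁⁻¹ * l₂, ?_⟩
      rw [MonObj.mul_comp, GrpObj.inv_comp, hl₁, hl₂, MonObj.comp_mul, GrpObj.comp_inv, toBC_mul, MTBridge.toBC_inv]
  haveI : IsMonHom jH := hjH
  -- the base change of `H` is `H'`
  let f : (Red.bc B.hom H).left ⟶ pullback q i :=
    pullback.lift ((Over.pullback B.hom).map jH).left (pullback.fst H.hom B.hom) (MTBridge.map_left_fst _ _)
  let g : pullback q i ⟶ (Red.bc B.hom H).left :=
    pullback.lift (pullback.snd q i) (pullback.fst q i ≫ pullback.snd G.hom B.hom) (by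
      change pullback.snd q i ≫ i ≫ G.hom = _
      rw [← pullback.condition_assoc, Category.assoc, ← pullback.condition])
  have hfg : f ≫ g = 𝟙 _ := by
    apply pullback.hom_ext
    · simp [f, g]
    · simp only [f, g, Category.assoc, pullback.lift_snd, pullback.lift_fst_assoc, Category.id_comp]
      exact MTBridge.map_left_snd _ _
  have hgf : g ≫ f = 𝟙 _ := by
    apply pullback.hom_ext
    · rw [Category.assoc, pullback.lift_fst, Category.id_comp]
      apply pullback.hom_ext
      · rw [Category.assoc, MTBridge.map_left_fst, pullback.lift_fst_assoc]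
        exact pullback.condition.symm
      · rw [Category.assoc, MTBridge.map_left_snd]
        exact pullback.lift_snd _ _ _
    · simp [f, g]
  let φ : Red.bc B.hom H ≅ H' := Over.isoMk (Iso.mk f g hfg hgf ≪≫ e) (by
    rw [Iso.trans_hom, ← Over.w j', Category.assoc, reassoc_of% he, pullback.lift_fst_assoc]
    exact Over.w _)
  have hφ : φ.hom ≫ j' = (Over.pullback B.hom).map jH := Over.OverMorphism.ext (by
    change (f ≫ e.hom) ≫ j'.left = _
    rw [Category.assoc, he, pullback.lift_fst])
  haveI : Mono j' := Over.mono_of_mono_left j'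
  haveI : IsMonHom φ.hom := isMonHom_of_points φ.hom fun X a b => by
    rw [← cancel_mono j', Category.assoc, hφ, MonObj.mul_comp, MonObj.mul_comp, Category.assoc, Category.assoc, hφ]
  refine ⟨hH, jH, hjH, rfl, ?_, φ, hφ⟩
  obtain ⟨S'', g', hf', hs', hlift, hloc⟩ := hH'
  haveI := hf'
  haveI := hs'
  refine ⟨S'', g' ≫ B.hom, inferInstance, inferInstance, cov_comp g' B.hom hlift hcov, fun s => ?_⟩
  obtain ⟨V, hV, M, hM, hMfg, ⟨eM⟩⟩ := hloc s
  exact ⟨V, hV, M, hM, hMfg, ⟨MTBridge.bcCongr (Category.assoc V.ι g' B.hom).symm H ≪≫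
    MTBridge.bcComp B.hom (V.ι ≫ g') H ≪≫ MTBridge.bcMapIso (V.ι ≫ g') (Grp.mkIso' φ) ≪≫ eM⟩⟩

/-- an isomorphism of base changes along an isomorphism gives a factorisation -/
theorem exists_factor_of_isIso {T T' : Scheme.{u}} {H₁ H₂ K : Over T} (k : T' ⟶ T) [IsIso k] (i₁ : H₁ ⟶ K) (i₂ : H₂ ⟶ K)
    (ψ : Red.bc k H₁ ⟶ Red.bc k H₂) (h : ψ ≫ (Over.pullback k).map i₂ = (Over.pullback k).map i₁) :
    ∃ u : H₁.left ⟶ H₂.left, u ≫ i₂.left = i₁.left := by
  refine ⟨inv (pullback.fst H₁.hom k) ≫ ψ.left ≫ pullback.fst H₂.hom k, ?_⟩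
  rw [Category.assoc, IsIso.inv_comp_eq, Category.assoc, ← MTBridge.map_left_fst k i₁, ← MTBridge.map_left_fst k i₂,
    ← Category.assoc, ← Over.comp_left, h]

/-- Existence: central subgroups of multiplicative type descend along fpqc coverings with geometrically
connected fibres. -/
theorem exists_descend_subgroup {G B : Over S} [GrpObj G] [IsSeparated G.hom] [LocallyOfFiniteType G.hom]
    [Flat B.hom] [Surjective B.hom]
    (hcov : ∀ V : S.Opens, IsAffineOpen V → ∃ W : B.left.Opens, IsCompact (W : Set B.left) ∧ B.hom.base '' (W : Set B.left) = (V : Set S))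
    (hconn : ∀ s : S, ConnectedSpace ↥(pullback B.hom (Red.geomPt s)))
    (H' : Over B.left) [GrpObj H'] (hH' : SGA3x.IsMultTypeFT H') (j' : H' ⟶ Red.bc B.hom G) [IsMonHom j']
    [IsImmersion j'.left]
    (hc : ∀ (X : Over B.left) (g : X ⟶ Red.bc B.hom G) (h : X ⟶ H'), g * (h ≫ j') = (h ≫ j') * g) :
    ∃ (H : Over S) (_ : GrpObj H) (j : H ⟶ G), IsMonHom j ∧ IsImmersion j.left ∧ SGA3x.IsMultTypeFT H ∧
      ∃ φ : Red.bc B.hom H ≅ H', φ.hom ≫ j' = (Over.pullback B.hom).map j := by
  let q : pullback G.hom B.hom ⟶ G.left := pullback.fst G.hom B.hom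
  have hq : Presieve.singleton q ∈ Scheme.fpqcPrecoverage G.left := by
    have := Precoverage.mem_coverings_of_isPullback (J := Scheme.fpqcPrecoverage) (fun _ : Unit => B.hom)
      (by rw [Presieve.ofArrows_pUnit]; exact singleton_mem B.hom hcov) G.hom (fun _ => q)
      (fun _ => pullback.snd G.hom B.hom) (fun _ => IsPullback.of_hasPullback G.hom B.hom)
    rwa [Presieve.ofArrows_pUnit] at this
  haveI : IsSeparated (Red.bc B.hom G).hom := MorphismProperty.pullback_snd _ _ ‹_›
  haveI : IsAffineHom H'.hom := MTBridge.isAffineHom H' hH'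
  haveI : QuasiCompact (j'.left ≫ (Red.bc B.hom G).hom) := by rw [Over.w j']; infer_instance
  haveI : QuasiCompact j'.left := QuasiCompact.of_comp j'.left (Red.bc B.hom G).hom
  let P : Over S := B ⊗ B
  haveI : IsSeparated (Red.bc P.hom G).hom := MorphismProperty.pullback_snd _ _ ‹_›
  haveI : LocallyOfFiniteType (Red.bc P.hom G).hom := MorphismProperty.pullback_snd _ _ ‹_›
  let i₁ := pullMap j' (fst B B)
  let i₂ := pullMap j' (snd B B)
  haveI : IsMonHom i₁ := isMonHom_pullMap j' _
  haveI : IsMonHom i₂ := isMonHom_pullMap j' _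
  haveI : IsImmersion i₁.left := isImmersion_pullMap j' _
  haveI : IsImmersion i₂.left := isImmersion_pullMap j' _
  obtain ⟨U, hUc, hU, ψU, hψU⟩ := MTBridge.exists_clopen_eq (Or.inr inferInstance)
    (MTBridge.isMultTypeFT_bc H' (fst B B).left hH') (MTBridge.isMultTypeFT_bc H' (snd B B).left hH')
    i₁ i₂ (central_pullMap j' _ hc)
  have hdiag : ∀ {T : Scheme.{u}} (k : T ⟶ P.left), k ≫ (fst B B).left = k ≫ (snd B B).left →
      ∃ ψ : Red.bc k (Red.bc (fst B B).left H') ≅ Red.bc k (Red.bc (snd B B).left H'),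
        ψ.hom ≫ (Over.pullback k).map i₂ = (Over.pullback k).map i₁ := by
    intro T k hk
    let mor : ∀ (x y : P ⟶ B), k ≫ x.left = k ≫ y.left →
        (pullback (pullback.snd H'.hom x.left) k ⟶ pullback (pullback.snd H'.hom y.left) k) := fun x y h =>
      pullback.lift (pullback.lift (pullback.fst _ k ≫ pullback.fst H'.hom x.left) (pullback.snd _ k ≫ k) (by
        rw [Category.assoc, pullback.condition, pullback.condition_assoc, Category.assoc, h]))
        (pullback.snd _ k) (pullback.lift_snd _ _ _)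
    have hinv : ∀ (x y : P ⟶ B) (h : k ≫ x.left = k ≫ y.left), mor x y h ≫ mor y x h.symm = 𝟙 _ := by
      intro x y h
      apply pullback.hom_ext
      · apply pullback.hom_ext
        · simp [mor]
        · simp [mor, pullback.condition]
      · simp [mor]
    refine ⟨Over.isoMk ⟨mor (fst B B) (snd B B) hk, mor (snd B B) (fst B B) hk.symm, hinv _ _ hk, hinv _ _ hk.symm⟩
      (pullback.lift_snd _ _ _), Over.OverMorphism.ext ?_⟩
    apply pullback.hom_ext
    · apply pullback.hom_ext
      · simp [mor, i₁, i₂, pullMap]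
      · simp [mor, i₁, i₂, pullMap, pullback.condition]
    · simp [mor]
  have htop : U = ⊤ := clopen_eq_top hconn U hUc fun b => by
    rw [hU]
    refine hdiag _ ?_
    let δ : B.left ⟶ (B ⊗ B).left := (lift (𝟙 B) (𝟙 B)).left
    have hδf : δ ≫ (fst B B).left = 𝟙 _ := congr(($(lift_fst (𝟙 B) (𝟙 B))).left)
    have hδs : δ ≫ (snd B B).left = 𝟙 _ := congr(($(lift_snd (𝟙 B) (𝟙 B))).left)
    haveI : IsPreimmersion δ := by
      rw [show δ = pullback.diagonal B.hom from pullback.hom_ext (hδf.trans (pullback.diagonal_fst B.hom).symm)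
        (hδs.trans (pullback.diagonal_snd B.hom).symm)]
      infer_instance
    rw [← cancel_epi (Spec.map (δ.residueFieldMap b)), Scheme.Hom.SpecMap_residueFieldMap_fromSpecResidueField_assoc,
      Scheme.Hom.SpecMap_residueFieldMap_fromSpecResidueField_assoc, hδf, hδs]
  subst htop
  haveI : IsIso ((⊤ : P.left.Opens).ι) := (Scheme.topIso P.left).isIso_hom
  obtain ⟨u, hu⟩ := exists_factor_of_isIso _ i₁ i₂ ψU.hom hψU
  have hj : ∀ {W : Scheme.{u}} (w₁ w₂ : W ⟶ pullback G.hom B.hom), w₁ ≫ q = w₂ ≫ q →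
      (∃ l, l ≫ j'.left = w₁) → ∃ l, l ≫ j'.left = w₂ := by
    rintro W w₁ w₂ e ⟨l, rfl⟩
    let t : W ⟶ P.left := pullback.lift ((l ≫ j'.left) ≫ pullback.snd G.hom B.hom) (w₂ ≫ pullback.snd G.hom B.hom) (by
      simp only [Category.assoc, ← pullback.condition]
      simpa only [Category.assoc, q] using congrArg (· ≫ G.hom) e)
    let a : W ⟶ (Red.bc (fst B B).left H').left := pullback.lift l t (by
      simp only [t]
      erw [pullback.lift_fst, Category.assoc]
      exact congrArg (l ≫ ·) (Over.w j').symm)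
    let c := a ≫ u
    have hc' : c ≫ i₂.left = a ≫ i₁.left := (Category.assoc _ _ _).trans (congrArg (a ≫ ·) hu)
    refine ⟨c ≫ pullback.fst H'.hom (snd B B).left, ?_⟩
    have fl : ∀ (y : P ⟶ B), (pullMap j' y).left ≫ pullback.fst G.hom P.hom =
        pullback.fst H'.hom y.left ≫ j'.left ≫ pullback.fst G.hom B.hom := fun y => pullback.lift_fst _ _ _
    have sl : ∀ (y : P ⟶ B), (pullMap j' y).left ≫ pullback.snd G.hom P.hom = pullback.snd H'.hom y.left :=
      fun y => pullback.lift_snd _ _ _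
    apply pullback.hom_ext
    · refine (Category.assoc _ _ _).trans ((Category.assoc _ _ _).trans ?_)
      refine ((congrArg (c ≫ ·) (fl (snd B B))).symm.trans ((Category.assoc _ _ _).symm.trans
        ((congrArg (· ≫ pullback.fst G.hom P.hom) hc').trans ((Category.assoc _ _ _).trans
          (congrArg (a ≫ ·) (fl (fst B B))))))).trans ?_
      refine (Category.assoc _ _ _).symm.trans ?_
      refine (congrArg (· ≫ _) (pullback.lift_fst l t _)).trans ((Category.assoc _ _ _).symm.trans ?_)
      exact e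
    · have h1 : c ≫ pullback.snd H'.hom (snd B B).left = t :=
        (congrArg (c ≫ ·) (sl (snd B B))).symm.trans ((Category.assoc _ _ _).symm.trans
          ((congrArg (· ≫ pullback.snd G.hom P.hom) hc').trans ((Category.assoc _ _ _).trans
            ((congrArg (a ≫ ·) (sl (fst B B))).trans (pullback.lift_snd _ _ _)))))
      rw [Category.assoc, Category.assoc, show j'.left ≫ pullback.snd G.hom B.hom = H'.hom from Over.w j',
        pullback.condition, reassoc_of% h1]
      exact pullback.lift_snd _ _ _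
  obtain ⟨Y, i, hi, e, he⟩ := exists_descend_immersion q hq j'.left hj
  haveI := hi
  obtain ⟨hH, jH, hjH, hji, hm, φ, hφ⟩ := exists_subgroup_of_descended hcov hH' j' i inferInstance e he
  exact ⟨_, hH, jH, hjH, (by rw [hji]; exact hi), hm, φ, hφ⟩

end Groth.Agent.MTDescent
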