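import Groth.Agent.MTDescent.Epi
import Groth.Agent.MTBridge.TrivLocus
import Groth.Agent.MTBridge.BaseChange
import Groth.Agent.MTBridge.CentralFibres
import Groth.Agent.MTBridge.EtaleConj
import Groth.Agent.MTBridge.ExtCentral
import Groth.Agent.GeomConn.Basic

/-! # Descent of central homomorphisms out of groups of multiplicative type -/

set_option autoImplicit false
set_option linter.style.haveILetI false
set_option linter.unusedSectionVars false
set_option backward.isDefEq.respectTransparency false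
set_option maxHeartbeats 1000000
set_option synthInstance.maxHeartbeats 400000

universe u

open CategoryTheory CategoryTheory.Limits MonoidalCategory CartesianMonoidalCategory AlgebraicGeometry
open scoped CategoryTheory.Obj MonObj
open Groth.Agent.MTBridge (toBC toBC_mul toBC_inj toBC_comp exists_toBC)

noncomputable section

namespace Groth.Agent.MTDescent

variable {S : Scheme.{u}}

/-- all fibres of `π` are connected after extension to any field, if they are geometrically connected -/
theorem connectedSpace_pullback {S' : Scheme.{u}} (π : S' ⟶ S)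
    (hconn : ∀ s : S, ConnectedSpace ↥(pullback π (Red.geomPt s))) (K : Type u) [Field K] (s : S)
    (φ : S.residueField s ⟶ CommRingCat.of K) :
    ConnectedSpace ↥(pullback π (Spec.map φ ≫ S.fromSpecResidueField s)) := by
  let k : Type u := S.residueField s
  letI : Algebra k K := φ.hom.toAlgebra
  let f := pullback.snd π (S.fromSpecResidueField s)
  have e : φ = CommRingCat.ofHom (algebraMap k K) := rfl
  have h1 : ConnectedSpace ↥(pullback f (Spec.map (CommRingCat.ofHom (algebraMap k (AlgebraicClosure k))))) := by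
    let i := pullbackLeftPullbackSndIso π (S.fromSpecResidueField s)
      (Spec.map (CommRingCat.ofHom (algebraMap k (AlgebraicClosure k))))
    haveI : ConnectedSpace ↥(pullback π (Spec.map (CommRingCat.ofHom (algebraMap k (AlgebraicClosure k))) ≫
      S.fromSpecResidueField s)) := hconn s
    exact i.inv.surjective.connectedSpace i.inv.continuous
  haveI := h1
  have h2 := @GeomConn.isConnected_preimage_of_algClosure k _ K _ _ _ f Set.univ
    (by rw [Set.preimage_univ]; exact isConnected_univ)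
  rw [Set.preimage_univ] at h2
  let i := pullbackLeftPullbackSndIso π (S.fromSpecResidueField s) (Spec.map φ)
  haveI : ConnectedSpace ↥(pullback f (Spec.map φ)) := by rw [e]; exact connectedSpace_iff_univ.mpr h2
  exact i.hom.surjective.connectedSpace i.hom.continuous

/-- a homomorphism is determined by multiplicativity on points -/
theorem isMonHom_of_points {H G : Over S} [GrpObj H] [GrpObj G] (w : H ⟶ G)
    (h : ∀ (X : Over S) (a b : X ⟶ H), (a * b) ≫ w = (a ≫ w) * (b ≫ w)) : IsMonHom w where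
  one_hom := by
    have h1 := h (𝟙_ (Over S)) 1 1
    rw [mul_one] at h1
    have h2 : (1 : 𝟙_ (Over S) ⟶ H) ≫ w = 1 := mul_left_cancel (a := (1 : 𝟙_ (Over S) ⟶ H) ≫ w)
      (by rw [mul_one]; exact h1.symm)
    rw [show η[H] = (1 : 𝟙_ (Over S) ⟶ H) by rw [Hom.one_def, toUnit_unit, Category.id_comp],
      show η[G] = (1 : 𝟙_ (Over S) ⟶ G) by rw [Hom.one_def, toUnit_unit, Category.id_comp], h2]
  mul_hom := by
    have h1 := h (H ⊗ H) (fst H H) (snd H H)
    rw [Hom.mul_def, Hom.mul_def, lift_fst_snd, Category.id_comp] at h1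
    rw [h1, ← lift_fst_comp_snd_comp]

section Family

variable {H G : Over S} [GrpObj H] [GrpObj G] {B : Over S} (u' : Red.bc B.hom H ⟶ Red.bc B.hom G)

/-- the family of homomorphisms over `B` given by a homomorphism of the base changes -/
def family : H ⊗ B ⟶ G :=
  Over.homMk (u'.left ≫ pullback.fst G.hom B.hom) (by
    rw [Category.assoc, pullback.condition, ← Category.assoc]
    change (u'.left ≫ (Red.bc B.hom G).hom) ≫ B.hom = (H ⊗ B).hom
    rw [Over.w u']
    exact pullback.condition.symm)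

theorem left_toBC_fst {X : Over B.left} (a : (Over.map B.hom).obj X ⟶ H) :
    (toBC B.hom a).left = (lift a (Over.homMk X.hom rfl : (Over.map B.hom).obj X ⟶ B)).left := by
  apply pullback.hom_ext <;> simp [MTBridge.toBC, Over.mapPullbackAdj]

theorem toBC_family {X : Over B.left} (a : (Over.map B.hom).obj X ⟶ H) :
    toBC B.hom (lift a (Over.homMk X.hom rfl : (Over.map B.hom).obj X ⟶ B) ≫ family u') = toBC B.hom a ≫ u' := by
  obtain ⟨c, hc⟩ := exists_toBC B.hom (toBC B.hom a ≫ u')
  rw [← hc]
  congr 1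
  ext1
  have h1 := congrArg (fun m => m.left ≫ pullback.fst G.hom B.hom) hc
  simp only [Over.comp_left, Category.assoc] at h1
  rw [left_toBC_fst] at h1
  rw [Over.comp_left]
  refine (Eq.trans ?_ h1.symm).trans ?_
  · rw [← left_toBC_fst]; rfl
  exact congr(($(lift_fst c _)).left)

theorem family_eq_comp {X : Over S} (u : H ⟶ G) (h : X ⟶ H) (b : X ⟶ B)
    (hu : (Over.pullback B.hom).map u = u') : lift h b ≫ family u' = h ≫ u := by
  ext1
  rw [← hu, Over.comp_left, Over.comp_left]
  change _ ≫ _ ≫ _ = _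
  rw [show ((Over.pullback B.hom).map u).left ≫ pullback.fst G.hom B.hom = pullback.fst H.hom B.hom ≫ u.left from
    pullback.lift_fst _ _ _, ← Category.assoc]
  congr 1
  exact congr(($(lift_fst h b)).left)

theorem family_mul [IsMonHom u'] {X : Over S} (h h' : X ⟶ H) (b : X ⟶ B) :
    lift (h * h') b ≫ family u' = (lift h b ≫ family u') * (lift h' b ≫ family u') := by
  let X' : Over B.left := Over.mk b.left
  let ε : (Over.map B.hom).obj X' ≅ X := Over.isoMk (Iso.refl _) (by simp [X'])
  have hb : (Over.homMk X'.hom rfl : (Over.map B.hom).obj X' ⟶ B) = ε.hom ≫ b := by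
    ext1; simp [X', ε]
  rw [← cancel_epi ε.hom]
  apply toBC_inj B.hom
  simp only [MonObj.comp_mul, comp_lift_assoc, ← hb]
  rw [toBC_family, toBC_mul, toBC_mul, toBC_family, toBC_family, MonObj.mul_comp]

theorem family_comm
    (hc : ∀ (X : Over B.left) (g : X ⟶ Red.bc B.hom G) (h : X ⟶ Red.bc B.hom H), g * (h ≫ u') = (h ≫ u') * g)
    {X : Over S} (h : X ⟶ H) (b : X ⟶ B) (g : X ⟶ G) :
    g * (lift h b ≫ family u') = (lift h b ≫ family u') * g := by
  let X' : Over B.left := Over.mk b.left
  let ε : (Over.map B.hom).obj X' ≅ X := Over.isoMk (Iso.refl _) (by simp [X'])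
  have hb : (Over.homMk X'.hom rfl : (Over.map B.hom).obj X' ⟶ B) = ε.hom ≫ b := by
    ext1; simp [X', ε]
  rw [← cancel_epi ε.hom]
  apply toBC_inj B.hom
  simp only [MonObj.comp_mul, comp_lift_assoc, ← hb]
  rw [toBC_mul, toBC_mul, toBC_family]
  exact hc _ _ _

end Family

variable {H G : Over S} [GrpObj H] [GrpObj G]

/-- A central family of homomorphisms out of a group of multiplicative type over a base with geometrically
connected fibres is constant. -/
theorem family_const (hH : SGA3x.IsMultTypeFT H) [IsSeparated G.hom] [LocallyOfFiniteType G.hom]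
    {B : Over S} (hconn : ∀ s : S, ConnectedSpace ↥(pullback B.hom (Red.geomPt s)))
    (u' : Red.bc B.hom H ⟶ Red.bc B.hom G) [IsMonHom u']
    (hc : ∀ (X : Over B.left) (g : X ⟶ Red.bc B.hom G) (h : X ⟶ Red.bc B.hom H), g * (h ≫ u') = (h ≫ u') * g)
    {X : Over S} (h : X ⟶ H) (b₁ b₂ : X ⟶ B) : lift h b₁ ≫ family u' = lift h b₂ ≫ family u' := by
  let D : ∀ {Y : Over S}, (Y ⟶ H) → (Y ⟶ B ⊗ B) → (Y ⟶ G) := fun a p =>
    (lift a (p ≫ fst B B) ≫ family u') * (lift a (p ≫ snd B B) ≫ family u')⁻¹
  have D_mul : ∀ {Y : Over S} (a a' : Y ⟶ H) (p : Y ⟶ B ⊗ B), D (a * a') p = D a p * D a' p := by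
    intro Y a a' p
    simp only [D, family_mul, _root_.mul_inv_rev]
    have := family_comm u' hc a' (p ≫ snd B B)
    simp only [_root_.mul_assoc]
    congr 1
    have hcm : Commute (lift a (p ≫ snd B B) ≫ family u')⁻¹
        ((lift a' (p ≫ fst B B) ≫ family u') * (lift a' (p ≫ snd B B) ≫ family u')⁻¹) :=
      ((show Commute ((lift a' (p ≫ fst B B) ≫ family u') * (lift a' (p ≫ snd B B) ≫ family u')⁻¹)
        (lift a (p ≫ snd B B) ≫ family u') from family_comm u' hc a _ _).symm).inv_left
    simpa only [_root_.mul_assoc] using hcm.eq.symm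
  have D_nat : ∀ {Y Y' : Over S} (q : Y' ⟶ Y) (a : Y ⟶ H) (p : Y ⟶ B ⊗ B), D (q ≫ a) (q ≫ p) = q ≫ D a p := by
    intro Y Y' q a p
    simp only [D, MonObj.comp_mul, GrpObj.comp_inv, comp_lift_assoc, Category.assoc]
  let P : Over S := B ⊗ B
  obtain ⟨a₀, ha₀⟩ := exists_toBC P.hom (𝟙 (Red.bc P.hom H))
  let w : Red.bc P.hom H ⟶ Red.bc P.hom G :=
    toBC P.hom (D a₀ (Over.homMk (Red.bc P.hom H).hom rfl))
  have hw : ∀ (Y : Over P.left) (a : (Over.map P.hom).obj Y ⟶ H),
      toBC P.hom a ≫ w = toBC P.hom (D a (Over.homMk Y.hom rfl)) := by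
    intro Y a
    have ha : (Over.map P.hom).map (toBC P.hom a) ≫ a₀ = a := toBC_inj P.hom (by
      rw [MTBridge.toBC_naturality, ha₀, Category.comp_id])
    change toBC P.hom a ≫ toBC P.hom _ = _
    have hY : (Over.map P.hom).map (toBC P.hom a) ≫
        (Over.homMk (Red.bc P.hom H).hom rfl : (Over.map P.hom).obj (Red.bc P.hom H) ⟶ P) =
        Over.homMk Y.hom rfl := Over.OverMorphism.ext (Over.w (toBC P.hom a))
    rw [← MTBridge.toBC_naturality, ← D_nat, ha, hY]
  haveI : IsMonHom w := isMonHom_of_points w fun Y p q => by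
    obtain ⟨a, rfl⟩ := exists_toBC P.hom p
    obtain ⟨c, rfl⟩ := exists_toBC P.hom q
    rw [← toBC_mul, hw, hw, hw, D_mul, toBC_mul]
  haveI : IsSeparated (Red.bc P.hom G).hom := MorphismProperty.pullback_snd _ _ ‹_›
  haveI : LocallyOfFiniteType (Red.bc P.hom G).hom := MorphismProperty.pullback_snd _ _ ‹_›
  obtain ⟨U, hUc, hU, hU1⟩ := MTBridge.exists_clopen_trivial _ _ (MTBridge.isMultTypeFT_bc H P.hom hH)
    (Or.inr inferInstance) w
  -- `w` vanishes on the diagonal
  have hdiag : ∀ {T : Scheme.{u}} (k : T ⟶ P.left), k ≫ (fst B B).left = k ≫ (snd B B).left →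
      (Over.pullback k).map w = 1 := by
    intro T k hk
    rw [MTBridge.map_eq_one_iff w (IsPullback.of_hasPullback (Red.bc P.hom H).hom k)]
    let Y : Over P.left := Over.mk (pullback.snd (Red.bc P.hom H).hom k ≫ k)
    let p : Y ⟶ Red.bc P.hom H := Over.homMk (pullback.fst (Red.bc P.hom H).hom k) pullback.condition
    obtain ⟨a, ha⟩ := exists_toBC P.hom p
    have h1 : p ≫ w = p ≫ 1 := by
      rw [← ha, hw, MonObj.comp_one]
      have e1 : D a (Over.homMk Y.hom rfl) = 1 := by
        have e : (Over.homMk Y.hom rfl : (Over.map P.hom).obj Y ⟶ P) ≫ fst B B =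
            (Over.homMk Y.hom rfl : (Over.map P.hom).obj Y ⟶ P) ≫ snd B B := by
          ext1
          simp only [Over.comp_left, Over.homMk_left]
          change (pullback.snd _ k ≫ k) ≫ _ = (pullback.snd _ k ≫ k) ≫ _
          rw [Category.assoc, Category.assoc, hk]
        change (lift a (_ ≫ fst B B) ≫ family u') * (lift a (_ ≫ snd B B) ≫ family u')⁻¹ = 1
        rw [e, mul_inv_cancel]
      rw [e1]
      exact map_one (MonoidHom.mk' (fun x : (Over.map P.hom).obj Y ⟶ G => toBC P.hom x) (toBC_mul P.hom))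
    exact congr(($h1).left)
  have hall : ∀ y : P.left, y ∈ U := by
    intro y
    let pr : P.left ⟶ B.left := (fst B B).left
    let δ : B.left ⟶ P.left := (lift (𝟙 B) (𝟙 B)).left
    have hδf : δ ≫ pr = 𝟙 _ := congr(($(lift_fst (𝟙 B) (𝟙 B))).left)
    have hδs : δ ≫ (snd B B).left = 𝟙 _ := congr(($(lift_snd (𝟙 B) (𝟙 B))).left)
    have hδU : ∀ b : B.left, δ b ∈ U := by
      intro b
      haveI : IsPreimmersion δ := by
        rw [show δ = pullback.diagonal B.hom from pullback.hom_ext (hδf.trans (pullback.diagonal_fst B.hom).symm)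
          (hδs.trans (pullback.diagonal_snd B.hom).symm)]
        infer_instance
      rw [hU]
      refine hdiag _ ?_
      rw [← cancel_epi (Spec.map (δ.residueFieldMap b)), Scheme.Hom.SpecMap_residueFieldMap_fromSpecResidueField_assoc,
        Scheme.Hom.SpecMap_residueFieldMap_fromSpecResidueField_assoc, hδf, hδs]
    let b := pr y
    let s := B.hom b
    have hfib : _root_.IsPreconnected (pr ⁻¹' {b}) := by
      haveI : ConnectedSpace ↥(pullback B.hom (B.left.fromSpecResidueField b ≫ B.hom)) := by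
        rw [← Scheme.Hom.SpecMap_residueFieldMap_fromSpecResidueField B.hom b]
        exact connectedSpace_pullback B.hom hconn _ s _
      let i := pullbackRightPullbackFstIso B.hom B.hom (B.left.fromSpecResidueField b)
      let i' : pullback B.hom (B.left.fromSpecResidueField b ≫ B.hom) ≅ pullback pr (B.left.fromSpecResidueField b) :=
        pullbackSymmetry _ _ ≪≫ i.symm ≪≫ pullbackSymmetry _ _
      haveI : ConnectedSpace ↥(pr.fiber b) := i'.hom.surjective.connectedSpace i'.hom.continuous
      exact ((pr.fiberHomeo b).surjective.connectedSpace (pr.fiberHomeo b).continuous |>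
        fun h => (isConnected_iff_connectedSpace.mpr h).isPreconnected)
    exact hfib.subset_isClopen ⟨hUc, U.2⟩ ⟨δ b, congrArg (fun m : B.left ⟶ B.left => m b) hδf, hδU b⟩ rfl
  have htop : U = ⊤ := top_le_iff.mp fun y _ => hall y
  subst htop
  haveI : IsIso ((⊤ : P.left.Opens).ι) := (Scheme.topIso P.left).isIso_hom
  rw [MTBridge.map_eq_one_iff w (IsPullback.of_hasPullback (Red.bc P.hom H).hom _)] at hU1
  rw [cancel_epi] at hU1
  have hw1 : w = 1 := by ext1; exact hU1
  let Y : Over P.left := Over.mk (lift b₁ b₂ : X ⟶ B ⊗ B).left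
  let ε : (Over.map P.hom).obj Y ≅ X := Over.isoMk (Iso.refl _) (by simp [Y, P])
  have hp : (Over.homMk Y.hom rfl : (Over.map P.hom).obj Y ⟶ P) = ε.hom ≫ lift b₁ b₂ := by
    apply Over.OverMorphism.ext; simp [Y, ε, P]
  have h2 := hw Y (ε.hom ≫ h)
  rw [hw1, MonObj.comp_one, hp, D_nat] at h2
  have h3 : ε.hom ≫ D h (lift b₁ b₂) = 1 := toBC_inj P.hom (h2.symm.trans
    (map_one (MonoidHom.mk' (fun x : (Over.map P.hom).obj Y ⟶ G => toBC P.hom x) (toBC_mul P.hom))).symm)
  rw [← MonObj.comp_one (f := ε.hom), cancel_epi] at h3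
  simp only [D, lift_fst, lift_snd] at h3
  exact mul_inv_eq_one.mp h3

/-- descent of central homomorphisms out of a group of multiplicative type -/
theorem existsUnique_descend (hH : SGA3x.IsMultTypeFT H) [IsSeparated G.hom] [LocallyOfFiniteType G.hom]
    {B : Over S} [Flat B.hom] [Surjective B.hom]
    (hcov : ∀ V : S.Opens, IsAffineOpen V → ∃ W : B.left.Opens, IsCompact (W : Set B.left) ∧ B.hom.base '' (W : Set B.left) = (V : Set S))
    (hconn : ∀ s : S, ConnectedSpace ↥(pullback B.hom (Red.geomPt s)))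
    (u' : Red.bc B.hom H ⟶ Red.bc B.hom G) [IsMonHom u']
    (hc : ∀ (X : Over B.left) (g : X ⟶ Red.bc B.hom G) (h : X ⟶ Red.bc B.hom H), g * (h ≫ u') = (h ≫ u') * g) :
    ∃! u : H ⟶ G, IsMonHom u ∧ (Over.pullback B.hom).map u = u' := by
  have epi : ∀ (X : Over S), EffectiveEpi (fst X B).left := fun X => effectiveEpi_fst B.hom hcov X.hom
  haveI := epi H
  let p : (H ⊗ B).left ⟶ H.left := (fst H B).left
  have hcond : ∀ {Z : Scheme.{u}} (g₁ g₂ : Z ⟶ (H ⊗ B).left), g₁ ≫ p = g₂ ≫ p →
      g₁ ≫ (family u').left = g₂ ≫ (family u').left := by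
    intro Z g₁ g₂ e
    let T : Over S := Over.mk (g₁ ≫ (H ⊗ B).hom)
    let x₁ : T ⟶ H ⊗ B := Over.homMk g₁ rfl
    let x₂ : T ⟶ H ⊗ B := Over.homMk g₂ (by
      change g₂ ≫ (H ⊗ B).hom = g₁ ≫ (H ⊗ B).hom
      rw [← Over.w (fst H B), reassoc_of% e])
    have ex : x₁ ≫ fst H B = x₂ ≫ fst H B := by ext1; exact e
    have := family_const hH hconn u' hc (x₁ ≫ fst H B) (x₁ ≫ snd H B) (x₂ ≫ snd H B)
    have l : ∀ x : T ⟶ H ⊗ B, lift (x ≫ fst H B) (x ≫ snd H B) = x := fun x => by
      rw [← comp_lift, lift_fst_snd, Category.comp_id]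
    rw [l x₁] at this
    rw [ex, l x₂] at this
    exact congr(($this).left)
  let m : H.left ⟶ G.left := EffectiveEpi.desc p (family u').left hcond
  have hm : p ≫ m = (family u').left := EffectiveEpi.fac _ _ _
  let v : H ⟶ G := Over.homMk m ((cancel_epi p).1 (by
    rw [reassoc_of% hm, Over.w]
    exact (Over.w (fst H B)).symm))
  have hv : ∀ {X : Over S} (h : X ⟶ H) (b : X ⟶ B), lift h b ≫ family u' = h ≫ v := by
    intro X h b
    have : fst H B ≫ v = family u' := by ext1; exact hm
    rw [← this, lift_fst_assoc]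
  haveI : IsMonHom v := isMonHom_of_points v fun X a c => by
    haveI := epi X
    haveI : Epi (fst X B) := (Over.forget S).epi_of_epi_map (inferInstanceAs (Epi (fst X B).left))
    rw [← cancel_epi (fst X B)]
    simp only [MonObj.comp_mul, ← Category.assoc]
    rw [← hv _ (snd X B), ← hv _ (snd X B), ← hv _ (snd X B)]
    exact family_mul u' _ _ _
  refine ⟨v, ⟨inferInstance, ?_⟩, fun u₂ hu₂ => ?_⟩
  · obtain ⟨a₀, ha₀⟩ := exists_toBC B.hom (𝟙 (Red.bc B.hom H))
    have h1 : toBC B.hom (a₀ ≫ v) = u' := by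
      rw [← hv a₀ (Over.homMk (Red.bc B.hom H).hom rfl), toBC_family, ha₀, Category.id_comp]
    rw [← h1, toBC_comp, ha₀, Category.id_comp]
  · haveI : Epi (fst H B) := (Over.forget S).epi_of_epi_map (inferInstanceAs (Epi (fst H B).left))
    rw [← cancel_epi (fst H B), ← family_eq_comp u' u₂ (fst H B) (snd H B) hu₂.2,
      ← hv (fst H B) (snd H B)]

end Groth.Agent.MTDescent
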