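import Groth.Agent.MTDescent.SubgroupDescent
import Groth.Agent.MTDescent.AffineMono

/-! # Descent of the reductive centre -/

set_option autoImplicit false
set_option linter.style.haveILetI false
set_option linter.unusedSectionVars false
set_option backward.isDefEq.respectTransparency false
set_option maxHeartbeats 1000000
set_option synthInstance.maxHeartbeats 400000

universe u

open CategoryTheory CategoryTheory.Limits MonoidalCategory CartesianMonoidalCategory AlgebraicGeometry
open scoped CategoryTheory.Obj MonObj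
open Groth.Agent.MTBridge (toBC toBC_mul toBC_inj toBC_comp exists_toBC)

noncomputable section

namespace Groth.Agent.MTDescent

variable {S : Scheme.{u}} {G B : Over S} [GrpObj G] {P : Over S} (x : P ⟶ B)

/-- read a point of `G` over `P` as a point of the base change over `B` -/
def unpull : Red.bc P.hom G ⟶ Red.bc x.left (Red.bc B.hom G) :=
  Over.homMk (pullback.lift (pullback.lift (pullback.fst G.hom P.hom) (pullback.snd G.hom P.hom ≫ x.left)
    (by rw [pullback.condition, Category.assoc, Over.w x])) (pullback.snd G.hom P.hom) (pullback.lift_snd _ _ _))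
    (pullback.lift_snd _ _ _)

theorem toBC_unpull {X : Over P.left} (c : (Over.map B.hom).obj ((Over.map x.left).obj X) ⟶ G) :
    toBC P.hom ((Over.isoMk (Iso.refl _) (by simp) :
        (Over.map P.hom).obj X ≅ (Over.map B.hom).obj ((Over.map x.left).obj X)).hom ≫ c) ≫ unpull x =
      toBC x.left (toBC B.hom c) := by
  ext1
  refine pullback.hom_ext ?_ ?_
  · rw [left_toBC_fst_eq, Over.comp_left, Category.assoc]
    simp only [unpull, Over.homMk_left, pullback.lift_fst]
    apply pullback.hom_ext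
    · rw [Category.assoc, pullback.lift_fst, left_toBC_fst_eq, left_toBC_fst_eq]
      simp
    · rw [Category.assoc, pullback.lift_snd, ← Category.assoc,
        show (toBC P.hom _).left ≫ pullback.snd G.hom P.hom = X.hom from Over.w (toBC P.hom _)]
      exact (Over.w (toBC B.hom c)).symm
  · exact ((Over.w (_ : X ⟶ Red.bc x.left (Red.bc B.hom G)))).trans (Over.w (toBC x.left _)).symm

theorem exists_unpull_iso {X : Over P.left} (p : X ⟶ Red.bc P.hom G) :
    ∃ c : (Over.map B.hom).obj ((Over.map x.left).obj X) ⟶ G,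
      p = toBC P.hom ((Over.isoMk (Iso.refl _) (by simp) :
        (Over.map P.hom).obj X ≅ (Over.map B.hom).obj ((Over.map x.left).obj X)).hom ≫ c) := by
  obtain ⟨d, rfl⟩ := exists_toBC P.hom p
  let ε : (Over.map P.hom).obj X ≅ (Over.map B.hom).obj ((Over.map x.left).obj X) :=
    Over.isoMk (Iso.refl _) (by simp)
  exact ⟨ε.inv ≫ d, by simp [ε]⟩

theorem isMonHom_unpull : IsMonHom (unpull (G := G) x) := isMonHom_of_points _ fun X p q => by
  obtain ⟨c, rfl⟩ := exists_unpull_iso x p
  obtain ⟨d, rfl⟩ := exists_unpull_iso x q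
  rw [← toBC_mul, ← MonObj.comp_mul, toBC_unpull, toBC_unpull, toBC_unpull, toBC_mul, toBC_mul]

theorem exists_eq_unpull {X : Over P.left} (g : X ⟶ Red.bc x.left (Red.bc B.hom G)) :
    ∃ g₀ : X ⟶ Red.bc P.hom G, g₀ ≫ unpull x = g := by
  obtain ⟨a, rfl⟩ := exists_toBC x.left g
  obtain ⟨c, rfl⟩ := exists_toBC B.hom a
  exact ⟨_, toBC_unpull x c⟩

/-- a central homomorphism pulled back and read over `B` is central -/
theorem central_unpull {H : Over P.left} [GrpObj H] (v : H ⟶ Red.bc P.hom G)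
    (hc : ∀ (X : Over P.left) (g : X ⟶ Red.bc P.hom G) (h : X ⟶ H), g * (h ≫ v) = (h ≫ v) * g)
    (X : Over P.left) (h : X ⟶ H) (g : X ⟶ Red.bc x.left (Red.bc B.hom G)) :
    (h ≫ v ≫ unpull x) * g = g * (h ≫ v ≫ unpull x) := by
  haveI := isMonHom_unpull (G := G) x
  obtain ⟨g₀, rfl⟩ := exists_eq_unpull x g
  rw [← Category.assoc, ← MonObj.mul_comp, ← MonObj.mul_comp, hc]

/-- descent of a reductive centre along an fpqc covering -/
theorem exists_descend_centre {G B : Over S} [GrpObj G] [Flat B.hom] [Surjective B.hom]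
    (hcov : ∀ V : S.Opens, IsAffineOpen V → ∃ W : B.left.Opens, IsCompact (W : Set B.left) ∧ B.hom.base '' (W : Set B.left) = (V : Set S))
    (Z' : Over B.left) [GrpObj Z'] (z' : Z' ⟶ Red.bc B.hom G) [IsMonHom z'] [Mono z'] (hZ' : SGA3x.IsMultTypeFT Z')
    (hc : ∀ (X : Over B.left) (x : X ⟶ Z') (g : X ⟶ Red.bc B.hom G), (x ≫ z') * g = g * (x ≫ z'))
    (huniv : ∀ (S'' : Scheme.{u}) (f' : S'' ⟶ B.left) (H : Over S'') [GrpObj H] (v : H ⟶ Red.bc f' (Red.bc B.hom G))
      [IsMonHom v], SGA3x.IsMultTypeFT H →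
      (∀ (X : Over S'') (x : X ⟶ H) (g : X ⟶ Red.bc f' (Red.bc B.hom G)), (x ≫ v) * g = g * (x ≫ v)) →
      ∃ w : H ⟶ Red.bc f' Z', w ≫ (Over.pullback f').map z' = v) :
    ∃ (Z : Over S) (_ : GrpObj Z) (z : Z ⟶ G), IsMonHom z ∧ Mono z ∧ SGA3x.IsMultTypeFT Z ∧
      (∀ (X : Over S) (x : X ⟶ Z) (g : X ⟶ G), (x ≫ z) * g = g * (x ≫ z)) ∧
      ∀ (S₂ : Scheme.{u}) (f₂ : S₂ ⟶ S) (H : Over S₂) [GrpObj H] (v : H ⟶ Red.bc f₂ G) [IsMonHom v],
        SGA3x.IsMultTypeFT H → (∀ (X : Over S₂) (x : X ⟶ H) (g : X ⟶ Red.bc f₂ G), (x ≫ v) * g = g * (x ≫ v)) →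
        ∃ w : H ⟶ Red.bc f₂ Z, w ≫ (Over.pullback f₂).map z = v := by
  haveI : Mono z'.left := inferInstance
  haveI : IsAffineHom Z'.hom := MTBridge.isAffineHom Z' hZ'
  haveI : IsAffineHom (z'.left ≫ pullback.snd G.hom B.hom) := by
    rw [show z'.left ≫ pullback.snd G.hom B.hom = Z'.hom from Over.w z']; infer_instance
  -- pulled back homomorphisms factor through the pulled back centre
  have key : ∀ {B₂ : Over S} {H : Over B₂.left} [GrpObj H] (v : H ⟶ Red.bc B₂.hom G) [IsMonHom v],
      SGA3x.IsMultTypeFT H →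
      (∀ (X : Over B₂.left) (g : X ⟶ Red.bc B₂.hom G) (h : X ⟶ H), g * (h ≫ v) = (h ≫ v) * g) →
      ∀ {W : Scheme.{u}} (l : W ⟶ H.left) (s : W ⟶ B.left) (hs : l ≫ H.hom ≫ B₂.hom = s ≫ B.hom),
        ∃ l' : W ⟶ Z'.left, l' ≫ z'.left =
          pullback.lift (l ≫ v.left ≫ pullback.fst G.hom B₂.hom) s (by
            rw [← hs, Category.assoc, Category.assoc, pullback.condition,
              reassoc_of% (show v.left ≫ pullback.snd G.hom B₂.hom = H.hom from Over.w v)]) := by
    intro B₂ H _ v _ hH hcv W l s hs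
    let xQ : B₂ ⊗ B ⟶ B₂ := fst B₂ B
    let yQ : B₂ ⊗ B ⟶ B := snd B₂ B
    haveI : IsMonHom (pullMap v xQ) := isMonHom_pullMap v xQ
    haveI : IsMonHom (unpull (G := G) yQ) := isMonHom_unpull yQ
    obtain ⟨w, hw⟩ := huniv _ yQ.left (Red.bc xQ.left H) (pullMap v xQ ≫ unpull yQ)
      (MTBridge.isMultTypeFT_bc H xQ.left hH) (central_unpull yQ _ (central_pullMap v xQ hcv))
    let t : W ⟶ (B₂ ⊗ B).left := pullback.lift (l ≫ H.hom) s (by rw [Category.assoc, hs])
    let a : W ⟶ (Red.bc xQ.left H).left := pullback.lift l t (pullback.lift_fst _ _ _).symm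
    refine ⟨a ≫ w.left ≫ pullback.fst Z'.hom yQ.left, ?_⟩
    have h1 := congrArg (fun k => a ≫ Over.Hom.left k ≫ pullback.fst (Red.bc B.hom G).hom yQ.left) hw
    simp only [Over.comp_left, Category.assoc] at h1
    rw [MTBridge.map_left_fst] at h1
    refine ((Category.assoc _ _ _).trans (congrArg (a ≫ ·) (Category.assoc _ _ _))).trans (h1.trans ?_)
    simp only [pullMap, unpull, Over.homMk_left, pullback.lift_fst]
    apply pullback.hom_ext
    · simp only [Category.assoc, pullback.lift_fst, a]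
      rw [pullback.lift_fst_assoc]
    · simp only [Category.assoc, pullback.lift_snd, pullback.lift_snd_assoc, a]
      exact pullback.lift_snd _ _ _
  have hj : ∀ {W : Scheme.{u}} (w₁ w₂ : W ⟶ pullback G.hom B.hom),
      w₁ ≫ pullback.fst G.hom B.hom = w₂ ≫ pullback.fst G.hom B.hom →
      (∃ l, l ≫ z'.left = w₁) → ∃ l, l ≫ z'.left = w₂ := by
    rintro W w₁ w₂ e ⟨l, rfl⟩
    obtain ⟨l', hl'⟩ := key z' hZ' (fun X g h => (hc X h g).symm) l (w₂ ≫ pullback.snd G.hom B.hom) (by
      rw [← show z'.left ≫ pullback.snd G.hom B.hom = Z'.hom from Over.w z', Category.assoc, ← pullback.condition,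
        Category.assoc, ← pullback.condition, ← reassoc_of% e])
    refine ⟨l', hl'.trans (pullback.hom_ext ?_ (pullback.lift_snd _ _ _))⟩
    rw [pullback.lift_fst, ← e, Category.assoc]
  obtain ⟨Y, i, hi, e, he⟩ := exists_descend_affine_mono B.hom hcov G z'.left hj
  obtain ⟨hZg, z, hz, hzi, hZm, φ, hφ⟩ := exists_subgroup_of_descended hcov hZ' z' i hi e he
  haveI : Mono z.left := by rw [hzi]; exact hi
  refine ⟨_, hZg, z, hz, Over.mono_of_mono_left z, hZm, ?_, ?_⟩
  · intro X x g
    haveI := effectiveEpi_fst B.hom hcov X.hom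
    let TB : Over B.left := Over.mk (pullback.snd X.hom B.hom)
    let ε : (Over.map B.hom).obj TB ⟶ X := Over.homMk (pullback.fst X.hom B.hom) pullback.condition
    haveI : Epi ε.left := inferInstanceAs (Epi (pullback.fst X.hom B.hom))
    haveI : Epi ε := (Over.forget S).epi_of_epi_map ‹Epi ε.left›
    rw [← cancel_epi ε]
    apply toBC_inj B.hom
    rw [MonObj.comp_mul, MonObj.comp_mul, toBC_mul, toBC_mul, ← Category.assoc, toBC_comp B.hom z (ε ≫ x), ← hφ,
      ← Category.assoc]
    exact hc _ _ _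
  · intro S₂ f₂ H _ v _ hH hcv
    haveI := effectiveEpi_fst B.hom hcov (H.hom ≫ f₂)
    let r := pullback.fst (H.hom ≫ f₂) B.hom
    obtain ⟨l', hl'⟩ := key (B₂ := Over.mk f₂) v hH (fun X g h => (hcv X h g).symm) r (pullback.snd _ _)
      pullback.condition
    let k : pullback (H.hom ≫ f₂) B.hom ⟶ Y := l' ≫ e.inv ≫ pullback.snd _ i
    have hk : k ≫ i = r ≫ v.left ≫ pullback.fst G.hom f₂ := by
      simp only [k, Category.assoc, ← pullback.condition]
      rw [← he]
      simp only [Category.assoc, Iso.inv_hom_id_assoc]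
      rw [reassoc_of% hl']
      exact pullback.lift_fst _ _ _
    let m := EffectiveEpi.desc r k (fun g₁ g₂ h => by
      rw [← cancel_mono i, Category.assoc g₁ k i, Category.assoc g₂ k i, hk, reassoc_of% h])
    have hm : m ≫ i = v.left ≫ pullback.fst G.hom f₂ := by
      rw [← cancel_epi r, ← Category.assoc, EffectiveEpi.fac, hk]
    refine ⟨Over.homMk (pullback.lift m H.hom (by
      change m ≫ i ≫ G.hom = _
      rw [reassoc_of% hm, pullback.condition, reassoc_of% (show v.left ≫ pullback.snd G.hom f₂ = H.hom from Over.w v)]))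
      (pullback.lift_snd _ _ _), Over.OverMorphism.ext ?_⟩
    apply pullback.hom_ext
    · rw [Over.comp_left, Category.assoc, MTBridge.map_left_fst]
      change pullback.lift m H.hom _ ≫ pullback.fst _ _ ≫ _ = _
      rw [hzi, pullback.lift_fst_assoc, hm]
    · rw [Over.comp_left, Category.assoc, MTBridge.map_left_snd]
      change pullback.lift m H.hom _ ≫ pullback.snd _ _ = _
      rw [pullback.lift_snd]
      exact (Over.w v).symm

end Groth.Agent.MTDescent
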